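import Cfsg.Agent.HZ.L.Bas

/-!
# HZ/L: sub-data for `r`-groups (helper54)
-/

set_option autoImplicit false
set_option linter.unusedSectionVars false
set_option maxHeartbeats 400000

namespace Cfsg.Agent.HZ.L.SbB

open Cfsg Cfsg.Agent.DL Cfsg.Agent.DL.PP Cfsg.Agent.DL.Base Cfsg.Agent.Nodes.Reps Matrix Cfsg.Agent.HZ.Gen Subgroup

variable {p : ℕ} [Fact p.Prime] {k : Type} [Field k] [CharP k p] [IsAlgClosed k] {Y : Type} [Group Y] {N : Type}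
  [Fintype N] [DecidableEq N] {ρ : Y →* GL N k} {F : MulAut Y} {G : Subgroup Y} {D : Datum p ρ F G}

/-- the roots which are trivial on a set of `r`-elements form a Levi subsystem -/
theorem exists_lam {r : ℕ} (hr : r.Prime) (hW : ¬ r ∣ Nat.card D.W) {Z : Set Y} (hZ : Z ⊆ D.T)
    (hz : ∀ z ∈ Z, ∃ j, z ^ r ^ j = 1) : ∃ lam : Vec D.R, D.Sz Z = {a | D.Rt a ∧ D.wt a ⬝ᵥ lam = 0} := by
  classical
  obtain ⟨lam, h⟩ := RL.exists_lam D {mu | ∀ a ∈ D.Sz Z, D.wt a ⬝ᵥ mu = 0}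
  refine ⟨lam, Set.ext fun b => ⟨fun hb => ⟨hb.1, (h b hb.1).2 fun mu hmu => hmu b hb⟩, fun hb => ⟨hb.1, fun z h1 => ?_⟩⟩⟩
  let H : Subgroup D.W :=
    { carrier := {w | ∀ a, D.act w a - a ∈ D.Lam Z}
      one_mem' := fun a => by rw [Datum.act, map_one, Module.End.one_apply, sub_self]; exact zero_mem _
      mul_mem' := fun {v w} hv hw a => by
        rw [Datum.act, map_mul, Module.End.mul_apply, ← sub_add_sub_cancel]
        exact add_mem (hv _) (hw a)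
      inv_mem' := fun {w} hw a => by
        have := neg_mem (hw (D.act w⁻¹ a))
        rwa [neg_sub, Datum.act, Datum.act, Tits.Roots.rep_apply_inv] at this }
  have := Fintype.ofFinite H
  have h2 : ∑ w : H, D.act w b = 0 := D.wt_injective (dotProduct_eq _ _ fun u => by
    have h3 : ∀ a, D.wt a ⬝ᵥ ∑ w : H, D.Wm (w⁻¹ : H) *ᵥ u = ∑ w : H, D.wt (D.act w a) ⬝ᵥ u := fun a => by
      rw [dotProduct_sum]
      exact Finset.sum_congr rfl fun w _ => by rw [dotProduct_mulVec, ← D.wt_act', coe_inv, inv_inv]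
    rw [map_sum, sum_dotProduct, ← h3, map_zero, zero_dotProduct]
    refine (h b hb.1).1 hb.2 _ fun a ha => ?_
    have h4 : D.rf a ∈ H := fun c => by
      rw [D.act_rf ha.1, sub_sub_cancel_left]
      exact neg_mem (zsmul_mem (D.mem_Sz.1 ha).2 _)
    have h5 := Equiv.sum_comp (Equiv.mulRight (⟨_, h4⟩ : H)) fun w : H => D.wt (D.act w a) ⬝ᵥ u
    have h6 : ∀ w : H, D.act (w * D.rf a) a = -D.act w a := fun w => by
      rw [Datum.act, map_mul, Module.End.mul_apply]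
      exact (congrArg _ (D.act_rf_self ha.1)).trans (map_neg _ _)
    simp only [Equiv.coe_mulRight, coe_mul, h6, map_neg, neg_dotProduct, Finset.sum_neg_distrib] at h5
    rw [h3]
    omega)
  have h3 : (Nat.card H : ℤ) • b ∈ D.Lam Z := by
    have := neg_mem (sum_mem fun (w : H) (_ : w ∈ Finset.univ) => w.2 b)
    rwa [Finset.sum_sub_distrib, h2, zero_sub, neg_neg, Finset.sum_const, Finset.card_univ, ← Nat.card_eq_fintype_card,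
      ← natCast_zsmul] at this
  have h4 := h3 z h1
  obtain ⟨j, hj⟩ := hz z h1
  have h5 := TO.X.Cn.χ_pow D b (hZ h1) (r ^ j)
  rw [D.χ_zsmul, zpow_natCast] at h4
  rw [hj, D.χ_one] at h5
  have h6 := pow_gcd_eq_one.2 ⟨h5.symm, h4⟩
  rwa [(hr.coprime_iff_not_dvd.2 fun e => hW (e.trans (card_subgroup_dvd_card H))).pow_left, pow_one] at h6

theorem sub_qs {Z : Set Y} (hZ : Z ⊆ D.T) (hg : ∀ a ∈ D.Sz Z, D.g a ∈ D.Sz Z) (h : ∀ a ∈ D.Sz Z, 0 ≤ a → 0 ≤ D.g a) :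
    (D.sub hZ hg rfl).QS := fun c hc h0 => by
  rw [← iota_nonneg_iff ((D.sub hZ hg rfl).g_root c hc)]
  show 0 ≤ D.io Z _
  rw [D.sub_g hZ hg rfl hc]
  exact h _ ((D.io_mem_Sz Z).2 hc) (iota_nonneg h0)

variable (D) in
theorem rt_gw (w : D.W) {a : D.I → ℤ} (ha : D.Rt a) : D.Rt (D.act w (D.g a)) := (D.g_root a ha).act w

theorem exists_x {Z : Set Y} (hZ : Z ⊆ D.T) (hg : ∀ a ∈ D.Sz Z, D.g a ∈ D.Sz Z) :
    ∃ x ∈ D.cen Z, ∃ v ∈ closure (D.rf '' D.Sz Z), D.Rp v (x⁻¹ * F x) ∧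
      ∀ a ∈ D.Sz Z, D.act v (D.g a) ∈ D.Sz Z ∧ (0 ≤ a → 0 ≤ D.act v (D.g a)) := by
  obtain ⟨x, hx, hr⟩ := (D.sub hZ hg rfl).exists_type (D.sub hZ hg rfl).wF⁻¹
  refine ⟨x, hx, _, D.range_subW.le ⟨_, rfl⟩, D.rp_of_sub hZ hg rfl hr, fun a ha => ?_⟩
  obtain ⟨c, hc, rfl⟩ := (D.io_roots Z).ge ha
  rw [← D.sub_g hZ hg rfl hc, D.act_subW hZ hg rfl]
  have a1 := rt_gw (D.sub hZ hg rfl) (D.sub hZ hg rfl).wF⁻¹ hc
  exact ⟨(D.sub_rt hZ hg rfl).1 a1, fun h0 =>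
    (iota_nonneg_iff a1).2 (((D.sub hZ hg rfl).wF_spec hc).2 ((iota_nonneg_iff hc).1 h0))⟩

section

variable {y : Y} (hy : y ∈ G) (hN : y⁻¹ * F y ∈ D.NN)

theorem conj_rf : (D.conj hy hN).rf = D.rf := by
  unfold Datum.rf
  rfl

theorem conj_Sz {Z : Set Y} (hZ : Z ⊆ cj y D.T) {a : D.I → ℤ} :
    a ∈ (D.conj hy hN).Sz Z ↔ D.Rt a ∧ ∀ z ∈ Z, D.χ a (y⁻¹ * z * y) = 1 :=
  and_congr_right fun _ => forall₂_congr fun z hz => by
    rw [← D.conj_χ hy hN a (mem_cj.1 (hZ hz)), show y * (y⁻¹ * z * y) * y⁻¹ = z by group]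

theorem conj_cen (Z : Set Y) : (D.conj hy hN).cen Z = cj y (D.T ⊔ D.S ((D.conj hy hN).Sz Z)) := by
  rw [Datum.cen, D.conj_T, D.conj_S, cj_sup]

/-- a quasi-split frame of the centraliser -/
theorem core {Z : Set Y} (hZ : Z ⊆ (D.conj hy hN).T)
    (hg : ∀ a ∈ (D.conj hy hN).Sz Z, (D.conj hy hN).g a ∈ (D.conj hy hN).Sz Z) :
    ∃ (s : Sb D) (u : s.E.W), s.K = (D.conj hy hN).cen Z ∧ s.E.QS ∧ (D.conj s.hy s.hF).Sz s.Z = (D.conj hy hN).Sz Z ∧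
      D.pr (y⁻¹ * F y) = s.sw u * s.w := by
  obtain ⟨x, hx, v, hv, h1, key⟩ := exists_x hZ hg
  have h2 : D.Rp (v * D.pr (y⁻¹ * F y)) ((x * y)⁻¹ * F (x * y)) := by
    have := ((D.conj_rp_iff hy hN (m := y⁻¹ * (x⁻¹ * F x) * y)).1 (by convert h1 using 1; group)).mul (D.rp_pr hN)
    convert this using 1
    rw [map_mul]
    group
  have hy' : x * y ∈ G := mul_mem ((D.conj hy hN).cen_le_G Z hx) hy
  have hN' : (x * y)⁻¹ * F (x * y) ∈ D.NN := ⟨_, h2⟩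
  have e : ∀ z ∈ Z, (x * y)⁻¹ * z * (x * y) = y⁻¹ * z * y := fun z hz => by
    calc _ = y⁻¹ * (x⁻¹ * (z * x)) * y := by group
      _ = _ := by rw [(D.conj hy hN).cen_le_centralizer hZ hx z hz, inv_mul_cancel_left]
  have hZ' : Z ⊆ cj (x * y) D.T := fun z hz => mem_cj.2 (by rw [e z hz]; exact mem_cj.1 (hZ hz))
  have hS : (D.conj hy' hN').Sz Z = (D.conj hy hN).Sz Z := Set.ext fun a =>
    (conj_Sz hy' hN' hZ').trans (Iff.trans (and_congr_right fun _ => forall₂_congr fun z hz => by rw [e z hz])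
      (conj_Sz hy hN hZ).symm)
  have h3 : ∀ a, (D.conj hy' hN').g a = D.act v ((D.conj hy hN).g a) := fun a => by
    rw [D.conj_g, D.conj_g, Datum.Rp.pr_eq h2, Datum.act, map_mul, Module.End.mul_apply]
  have h4 : ∀ a ∈ (D.conj hy' hN').Sz Z, (D.conj hy' hN').g a ∈ (D.conj hy' hN').Sz Z ∧
      (0 ≤ a → 0 ≤ (D.conj hy' hN').g a) := fun a ha => by
    rw [h3]
    exact ⟨hS.ge (key a (hS.le ha)).1, (key a (hS.le ha)).2⟩
  rw [conj_rf, ← hS, ← conj_rf hy' hN', ← Datum.range_subW] at hv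
  obtain ⟨u, hu⟩ := inv_mem hv
  refine ⟨⟨x * y, hy', hN', Z, hZ', fun a ha => (h4 a ha).1⟩, u, ?_,
    sub_qs (D := D.conj hy' hN') hZ' _ fun a ha => (h4 a ha).2, hS, ?_⟩
  · refine (conj_cen hy' hN' Z).trans ?_
    rw [hS, cj_mul, ← conj_cen, cj_eq_of_mem hx]
  · exact (eq_inv_mul_of_mul_eq (Datum.Rp.pr_eq h2).symm).trans (congrArg (· * _) hu.symm)

theorem main {r : ℕ} (hr : r.Prime) (hW : ¬ r ∣ Nat.card D.W) {P : Subgroup ↥(GF F G)} (hP : IsPGroup r P)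
    (hZ : (P.map (GF F G).subtype : Set Y) ⊆ (D.conj hy hN).T) {lam : Vec D.R}
    (h : (D.conj hy hN).Sz (P.map (GF F G).subtype : Set Y) = {a | D.Rt a ∧ D.wt a ⬝ᵥ lam = 0}) :
    ∃ (s : Sb D) (u : s.E.W), s.For r P ∧ rts s.E = lev (rts D) lam ∧ D.pr (y⁻¹ * F y) = s.sw u * s.w ∧
      s.K = cj y (D.T ⊔ D.S {a | D.Rt a ∧ D.wt a ⬝ᵥ lam = 0}) := by
  have : Fact r.Prime := ⟨hr⟩
  obtain ⟨s, u, h1, h2, h3, h4⟩ := core hy hN hZ fun a => (D.conj hy hN).g_mem_Sz hZ (by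
    rintro _ ⟨b, hb, rfl⟩
    exact ⟨b, hb, b.2.2.symm⟩)
  refine ⟨s, u, ⟨hP, h1.trans (cen_eq (D.conj hy hN) hW hZ (pow_of_mem hP)).symm, h2⟩, Set.ext fun a => ?_, h4, ?_⟩
  · rw [s.mem_rts, h3, h]
    exact ⟨fun ⟨b, hb, e⟩ => e ▸ ⟨rt_mem hb.1, hb.2⟩, fun ⟨⟨b, hb, e⟩, h5⟩ => ⟨b, ⟨hb, by rwa [e] at h5⟩, e⟩⟩
  · rw [h1, conj_cen, h]

end

end Cfsg.Agent.HZ.L.SbB

namespace Cfsg.Agent.HZ.L

open Cfsg Cfsg.Agent.DL Cfsg.Agent.DL.PP Cfsg.Agent.Nodes.Reps Matrix Cfsg.Agent.HZ.Gen Subgroup SbB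

variable {p : ℕ} [Fact p.Prime] {k : Type} [Field k] [CharP k p] [IsAlgClosed k] {Y : Type} [Group Y] {N : Type}
  [Fintype N] [DecidableEq N] {ρ : Y →* GL N k} {F : MulAut Y} {G : Subgroup Y} (D : Datum p ρ F G)

theorem sbP : SbP D := by
  refine ⟨fun r hr hp hW P hP => ?_, fun r hr hp hW w z lam h1 h2 => ?_⟩
  · have : Fact r.Prime := ⟨hr⟩
    obtain ⟨T, hT, h⟩ := exists_tor D hp hW hP
    obtain ⟨y, hy, w, hw, rfl⟩ := exists_y hT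
    have hZ : (P.map (GF F G).subtype : Set Y) ⊆ (D.conj hy ⟨w, hw⟩).T := by
      rintro _ ⟨a, ha, rfl⟩
      exact h a ha
    obtain ⟨lam, h1⟩ := exists_lam (D := D.conj hy ⟨w, hw⟩) hr hW hZ (pow_of_mem hP)
    obtain ⟨s, -, h2, h3, -⟩ := main hy ⟨w, hw⟩ hr hW hP hZ h1
    exact ⟨s, lam, h2, h3⟩
  have : NeZero ((r : ℕ) : k) := ⟨fun h => hp ((Nat.prime_dvd_prime_iff_eq Fact.out hr).1
    ((CharP.cast_eq_zero_iff k p _).1 h)).symm⟩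
  obtain ⟨ζ₀, h0⟩ := HasEnoughRootsOfUnity.exists_primitiveRoot k r
  have hζ := h0.isUnit_unit hr.ne_zero
  generalize (h0.isUnit hr.ne_zero).unit = ζ at hζ
  obtain ⟨y, hy, hw⟩ := D.exists_type w
  have h3 : (D.conj hy ⟨w, hw⟩).τ (coch z ζ) ∈ GF F G := ⟨(D.conj hy ⟨w, hw⟩).T_le_G (Datum.τ_mem _ _), by
    show F _ = (D.conj hy ⟨w, hw⟩).τ _
    rw [(D.conj hy ⟨w, hw⟩).F_τ, D.conj_Mx, Datum.Rp.pr_eq hw, mon_coch]
    exact congrArg _ (funext fun i => by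
      have := h1 i
      rw [sub_mulVec, one_mulVec, Pi.sub_apply, ← hζ.zpow_eq_one_iff_dvd, _root_.zpow_sub, mul_inv_eq_one] at this
      exact this)⟩
  have hP : IsPGroup r (zpowers (⟨_, h3⟩ : GF F G)) := by
    rintro ⟨_, n, rfl⟩
    refine ⟨1, Subtype.ext (Subtype.ext ?_)⟩
    show ((D.conj hy ⟨w, hw⟩).τ (coch z ζ) ^ n) ^ r ^ 1 = 1
    rw [← zpow_natCast, ← _root_.zpow_mul, mul_comm, _root_.zpow_mul, zpow_natCast, pow_one, ← map_pow, ← map_pow,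
      hζ.pow_eq_one, map_one, map_one, _root_.one_zpow]
  have h4 : ∀ a (n : ℤ), (D.conj hy ⟨w, hw⟩).χ a ((D.conj hy ⟨w, hw⟩).τ (coch z ζ) ^ n) = 1 ↔
      (r : ℤ) ∣ D.wt a ⬝ᵥ z * n := fun a n => by
    rw [← map_zpow, Datum.χ_τ, map_zpow, chr_coch, Units.val_eq_one, ← _root_.zpow_mul, hζ.zpow_eq_one_iff_dvd]
    rfl
  obtain ⟨s, u, h5, h6, h7, h8⟩ := main hy ⟨w, hw⟩ hr hW hP (lam := lam) (by
    rintro _ ⟨_, ⟨n, rfl⟩, rfl⟩
    exact zpow_mem (Datum.τ_mem _ _) n) (Set.ext fun a => and_congr_right fun ha => Iff.trans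
      ⟨fun h => by simpa only [mul_one] using (h4 a 1).1 (h _ ⟨_, ⟨1, rfl⟩, rfl⟩), by
        rintro h _ ⟨_, ⟨n, rfl⟩, rfl⟩
        exact (h4 a n).2 (h.mul_right n)⟩ (h2 _ (rt_mem ha)))
  refine ⟨_, s, u, h5, h6, (Datum.Rp.pr_eq hw).symm.trans h7, fun y' hy' hw' => ?_⟩
  have h9 : (y' * y⁻¹)⁻¹ * F (y' * y⁻¹) ∈ s.K := by
    rw [h8, mem_cj]
    refine mem_sup_left ?_
    have := inv_mem (hw.inv.unique hw'.inv)
    rw [map_mul, map_inv]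
    convert this using 1
    group
  obtain ⟨c, hc, e⟩ := s.E.lang_G h9
  refine ⟨c * (y' * y⁻¹)⁻¹, mem_GF.2 ⟨mul_mem (s.K_le hc) (inv_mem (mul_mem hy' (inv_mem hy))), ?_⟩, ?_⟩
  · rw [map_mul, map_inv, eq_mul_of_inv_mul_eq e]
    group
  · rw [show c * (y' * y⁻¹)⁻¹ * y' = c * y by group, cj_mul, ← h8, cj_eq_of_mem hc]

/-- **[Sb]** -/
theorem boxSb : BoxSb D := fun _ => sbP D

end Cfsg.Agent.HZ.L
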